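import Cfsg.Agent.H132.S5.Main
import Cfsg.Agent.H132.S5.CycChar
import Cfsg.Agent.H240.BalTwF.Inner
import Cfsg.Agent.H28.T5TwF
import Cfsg.Agent.H143.T5FiTits
import Cfsg.Agent.Omega.TitsIso.TitsSide

/-!
# S2274, task 3622: the strong rows of `²F₄(q)`, `q ≥ 8`, and of the Tits group (helper823)

* `spair_of_twin` : two commuting isomorphic simple subgroups `L`, `M` which meet trivially, `L ^ g ≤ M`, `L M` of index
  prime to `p`;
* `inner_twF4`, `srow_twF4`, `srow_tits`.
-/

set_option autoImplicit false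

universe u

namespace Cfsg.Agent.H823.S5

open Subgroup Cfsg Cfsg.Agent.H533.T5 Cfsg.Agent.H957.T5M Cfsg.Agent.H106.MB Cfsg.Agent.H106.MT Cfsg.Agent.H132.S5

section twin

variable {S : Type*} [Group S] {p : ℕ}

/-- the product of two commuting subgroups -/
def mulHom {L M : Subgroup S} (h : ∀ l ∈ L, ∀ m ∈ M, l * m = m * l) : L × M →* S where
  toFun a := (a.1 : S) * (a.2 : S)
  map_one' := by simp
  map_mul' := by
    rintro ⟨⟨a, ha⟩, ⟨b, hb⟩⟩ ⟨⟨c, hc⟩, ⟨d, hd⟩⟩
    show (a * c) * (b * d) = (a * b) * (c * d)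
    have h1 := h c hc b hb
    calc (a * c) * (b * d) = a * (c * b) * d := by group
      _ = a * (b * c) * d := by rw [h1]
      _ = (a * b) * (c * d) := by group

theorem mulHom_injective {L M : Subgroup S} (h : ∀ l ∈ L, ∀ m ∈ M, l * m = m * l)
    (hinf : ∀ x ∈ L, x ∈ M → x = 1) : Function.Injective (mulHom h) := by
  rw [injective_iff_map_eq_one]
  rintro ⟨⟨a, ha⟩, ⟨b, hb⟩⟩ hab
  have h1 : a * b = 1 := hab
  have h2 : a = b⁻¹ := eq_inv_of_mul_eq_one_left h1
  have h3 : a = 1 := hinf a ha (by rw [h2]; exact M.inv_mem hb)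
  have h4 : b = 1 := by rw [h3, one_mul] at h1; exact h1
  subst h3
  subst h4
  rfl

/-- **Twins.** -/
theorem spair_of_twin [Finite S] [hp : Fact p.Prime] {L M : Subgroup S} (g : S)
    (hg : ∀ l ∈ L, g * l * g⁻¹ ∈ M) (hLM : ∀ l ∈ L, ∀ m ∈ M, l * m = m * l)
    (hinf : ∀ x ∈ L, x ∈ M → x = 1) [IsSimpleGroup ↥M] (hna : ¬ IsMulCommutative ↥M)
    (hrow : SRow p ↥M) (hcard : Nat.card L = Nat.card M)
    (hfac : (Nat.card S).factorization p ≤ 2 * (Nat.card L).factorization p)
    {x y : S} (hx : orderOf x = p) (hy : orderOf y = p) : SPair p (⊤ : Subgroup S) x y := by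
  have hinj := mulHom_injective hLM hinf
  have hM0 : Nat.card M ≠ 0 := Nat.card_pos.ne'
  have hrc : Nat.card (mulHom hLM).range = Nat.card M * Nat.card M := by
    rw [← Nat.card_congr (MonoidHom.ofInjective hinj).toEquiv, Nat.card_prod, hcard]
  have hidx : ¬ p ∣ (mulHom hLM).range.index := by
    intro hd
    have h1 := (mulHom hLM).range.card_mul_index
    have hi0 : (mulHom hLM).range.index ≠ 0 := Subgroup.index_ne_zero_of_finite
    have h2 : (Nat.card S).factorization p =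
        (Nat.card M).factorization p + (Nat.card M).factorization p + ((mulHom hLM).range.index).factorization p := by
      rw [← h1, hrc, Nat.factorization_mul (mul_ne_zero hM0 hM0) hi0, Nat.factorization_mul hM0 hM0]
      rfl
    have h3 : 0 < ((mulHom hLM).range.index).factorization p := hp.out.factorization_pos_of_dvd hi0 hd
    rw [hcard] at hfac
    omega
  -- conjugates with non-trivial second component
  have key : ∀ z : S, orderOf z = p → ∃ (a : L × M) (s : S), mulHom hLM a = s * z * s⁻¹ ∧ orderOf a.2 = p := by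
    intro z hz
    obtain ⟨s, hs⟩ := H132.S5.exists_conj_mem_of_index hidx hz
    obtain ⟨⟨a, b⟩, hab⟩ := hs
    have hord : ∀ (w : L × M), orderOf (mulHom hLM w) = p → w.2 ≠ 1 → orderOf w.2 = p := by
      intro w hw hw1
      have h1 : orderOf w = p := by rw [← orderOf_injective _ hinj, hw]
      have h2 : orderOf w.2 ∣ p := by
        rw [← h1]
        exact orderOf_map_dvd (MonoidHom.snd L M) w
      rcases (Nat.dvd_prime hp.out).1 h2 with h3 | h3
      · exact absurd (orderOf_eq_one_iff.1 h3) hw1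
      · exact h3
    have hsz : orderOf (s * z * s⁻¹) = p := by rw [orderOf_cj, hz]
    by_cases hb : b = 1
    · -- `z` is conjugate into `L`
      subst hb
      have h1 : (a : S) = s * z * s⁻¹ := by
        rw [← hab]
        show (a : S) = (a : S) * ((1 : M) : S)
        rw [Subgroup.coe_one, mul_one]
      have h2 : mulHom hLM (1, ⟨g * (a : S) * g⁻¹, hg a a.2⟩) = (g * s) * z * (g * s)⁻¹ := by
        show ((1 : L) : S) * (g * (a : S) * g⁻¹) = _
        rw [Subgroup.coe_one, one_mul, h1]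
        group
      refine ⟨(1, ⟨g * (a : S) * g⁻¹, hg a a.2⟩), g * s, h2, ?_⟩
      refine hord _ (by rw [h2, orderOf_cj, hz]) ?_
      intro h3
      have h4 : g * (a : S) * g⁻¹ = 1 := congrArg Subtype.val h3
      have h5 : (a : S) = 1 := by
        have h6 : (a : S) = g⁻¹ * (g * (a : S) * g⁻¹) * g := by group
        rw [h6, h4]
        group
      rw [h1] at h5
      rw [h5, orderOf_one] at hsz
      exact hp.out.one_lt.ne hsz
    · exact ⟨(a, b), s, hab, hord _ (by rw [hab, hsz]) hb⟩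
  obtain ⟨a, s, ha, ha2⟩ := key x hx
  obtain ⟨b, t, hb, hb2⟩ := key y hy
  have h1 : SPair p (⊤ : Subgroup (L × M)) a b := by
    refine SPair.of_hom hp.out (MonoidHom.snd L M) ?_ (hrow.pair hp.out hna (a := a.2) (b := b.2) ha2 hb2)
    intro m _
    exact ⟨(1, m), Subgroup.mem_top _, rfl⟩
  exact spair_of_embedding' (mulHom hLM) hinj h1 ha hb

end twin

section rows

open Cfsg.Agent.KFacts.TwF4 Cfsg.Agent.ChevalleyStructure.TwF4.TwistedFix Cfsg.Agent.H240.BalTwF
open Cfsg.Agent.KFacts.TwF4.Irr Cfsg.Agent.CpAutTwF.Cent Cfsg.Agent.CpAutTwF.Pair Cfsg.Agent.H772.TF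
open Cfsg.Agent.H496.TwFRad.Levi Cfsg.Agent.H496.TwEight.PLFacts

theorem na_of_simple_card {M : Type*} [Group M] [Finite M] [IsSimpleGroup M] {a b : ℕ} (ha : 1 < a) (hb : 1 < b)
    (h : Nat.card M = a * b) : ¬ IsMulCommutative M := by
  intro hc
  have h1 : (Nat.card M).Prime := by
    let _ : CommGroup M := { (inferInstance : Group M) with mul_comm := fun x y => hc.is_comm.comm x y }
    exact IsSimpleGroup.prime_card
  rw [h] at h1
  exact Nat.not_prime_mul ha.ne' hb.ne' h1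

theorem row_of_below {p n : ℕ} (hlt : SBelow.{u} p n) {M : Type} [Group M] [Finite M] (hs : IsSimpleGroup M)
    (hna : ¬ IsMulCommutative M) (hc : Nat.card M < n) : SRow p M := by
  have e : ULift.{u} M ≃* M := MulEquiv.ulift
  have h1 : IsSimpleGroup (ULift.{u} M) := e.isSimpleGroup
  have h2 : Nat.card (ULift.{u} M) = Nat.card M := Nat.card_congr e.toEquiv
  refine H897.T5Sub.SRow.congr e (hlt (ULift.{u} M) h1 ?_ (by rw [h2]; exact hc))
  intro h3
  refine hna ⟨⟨fun a b => e.symm.injective ?_⟩⟩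
  rw [map_mul, map_mul]
  exact h3.is_comm.comm _ _

/-- **The pairs of elements of order `p` of `²F₄(q)`.** -/
theorem inner_twF4 {p : ℕ} (hp : p.Prime) (h5 : 5 ≤ p) (B : SBox.{u} p) {S : Type u} [Group S] [Finite S]
    [IsSimpleGroup S] (hna : ¬ IsMulCommutative S) (hlt : SBelow.{u} p (Nat.card S)) {K : Type} [Field K] [Fintype K]
    {m : ℕ} (hm : 1 ≤ m) (hK : Fintype.card K = 2 ^ (2 * m + 1)) (e : S ≃* ↥(Lie.twistedF4 K (2 ^ m))) {x y : S}
    (hx : orderOf x = p) (hy : orderOf y = p) : SPair p (⊤ : Subgroup S) x y := by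
  have hpf : Fact p.Prime := ⟨hp⟩
  have hch := Cfsg.Agent.ChevalleyStructure.TwF4.Twisted.charP_two hK
  have hfin := H42.Tw.finite_tw (K := K) (2 ^ m)
  have hF := H42.Tw.exists_unit hm hK
  obtain ⟨φ, hφ⟩ := exists_rln hK
  have hcK : Nat.card K = 2 ^ (2 * m + 1) := by rw [Nat.card_eq_fintype_card, hK]
  have h8 : 8 ≤ 2 ^ (2 * m + 1) := by
    calc 8 = 2 ^ 3 := by norm_num
      _ ≤ 2 ^ (2 * m + 1) := Nat.pow_le_pow_right (by norm_num) (by omega)
  have hp2 : p ≠ 2 := by omega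
  have hcard : Nat.card ↥(Lie.twistedF4 K (2 ^ m)) = H42.Tw.ord (Nat.card K) := by
    rw [hcK]; exact Cfsg.Agent.S1068.result hK
  have hcS : Nat.card S = H42.Tw.ord (Nat.card K) := by rw [Nat.card_congr e.toEquiv, hcard]
  have hd : p ∣ H42.Tw.ord (2 ^ (2 * m + 1)) := by
    rw [← hcK, ← hcS, ← hx]
    exact orderOf_dvd_natCard x
  have hpq : ¬ p ∣ 2 ^ (2 * m + 1) := by
    intro h
    exact hp2 ((Nat.prime_dvd_prime_iff_eq hp Nat.prime_two).1 (hp.dvd_of_dvd_pow h))
  -- transport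
  have trans : (∀ a b : ↥(Lie.twistedF4 K (2 ^ m)), orderOf a = p → orderOf b = p →
      SPair p (⊤ : Subgroup ↥(Lie.twistedF4 K (2 ^ m))) a b) → SPair p (⊤ : Subgroup S) x y := by
    intro h
    refine SPair.of_hom hp e.toMonoidHom ?_ (h (e x) (e y) (by rw [MulEquiv.orderOf_eq, hx])
      (by rw [MulEquiv.orderOf_eq, hy]))
    intro a _
    exact ⟨e.symm a, Subgroup.mem_top _, e.apply_symm_apply a⟩
  -- the cyclic case
  have cyc : (∀ {P : Subgroup ↥(Lie.twistedF4 K (2 ^ m))}, IsPGroup p P → IsCyclic P) →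
      SPair p (⊤ : Subgroup S) x y := by
    intro h
    obtain ⟨P⟩ : Nonempty (Sylow p S) := inferInstance
    have h1 : IsCyclic ↥((P : Subgroup S).map e.toMonoidHom) := h (P.2.map e.toMonoidHom)
    have h2 : IsCyclic ↥(P : Subgroup S) :=
      isCyclic_of_injective ((P : Subgroup S).equivMapOfInjective e.toMonoidHom e.injective).toMonoidHom
        ((P : Subgroup S).equivMapOfInjective e.toMonoidHom e.injective).injective
    exact spair_of_cyclic B.aa B.rs hna P h2 hx hy
  -- the case of `L4`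
  have sz : (p ∣ Nat.card K - 1 ∨ p ∣ Nat.card K ^ 2 + 1) → SPair p (⊤ : Subgroup S) x y := by
    intro h
    apply trans
    intro a b ha hb
    have hs := simple_M4 (Inst.full hK hφ) hm hcK
    have hc4 : Nat.card (M4 (Inst.full hK hφ)) =
        (Nat.card K * Nat.card K * (Nat.card K - 1)) * (Nat.card K * Nat.card K + 1) := by
      rw [card_M4, card_L4 _ hF]
    have hna4 : ¬ IsMulCommutative (M4 (Inst.full hK hφ)) := by
      refine na_of_simple_card ?_ ?_ hc4
      · rw [hcK]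
        obtain ⟨r, hr⟩ : ∃ r, 2 ^ (2 * m + 1) = r + 8 := ⟨2 ^ (2 * m + 1) - 8, by omega⟩
        rw [hr, show r + 8 - 1 = r + 7 by omega]
        nlinarith [Nat.zero_le (r * r * r), Nat.zero_le (r * r)]
      · rw [hcK]
        nlinarith
    have hlt4 : Nat.card (M4 (Inst.full hK hφ)) < Nat.card S := by
      rw [hc4, hcS, hcK]
      unfold H42.Tw.ord
      obtain ⟨r, hr⟩ : ∃ r, 2 ^ (2 * m + 1) = r + 8 := ⟨2 ^ (2 * m + 1) - 8, by omega⟩
      obtain ⟨q, hq⟩ : ∃ q, q = 2 ^ (2 * m + 1) := ⟨_, rfl⟩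
      rw [← hq] at h8 ⊢
      have e1 : q * q * (q - 1) ≤ q ^ 12 * (q - 1) := by
        refine Nat.mul_le_mul_right _ ?_
        rw [← pow_two]
        exact Nat.pow_le_pow_right (by omega) (by norm_num)
      have e2 : 1 < q ^ 3 + 1 := by
        have := Nat.pos_of_ne_zero (pow_ne_zero 3 (by omega : q ≠ 0))
        omega
      have e3 : 0 < q ^ 4 - 1 := by
        have : 1 < q ^ 4 := Nat.one_lt_pow (by norm_num) (by omega)
        omega
      have e4 : q * q + 1 ≤ q ^ 6 + 1 := by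
        have : q ^ 2 ≤ q ^ 6 := Nat.pow_le_pow_right (by omega) (by norm_num)
        nlinarith
      have e5 : 0 < q * q * (q - 1) := by
        refine Nat.mul_pos (Nat.mul_pos (by omega) (by omega)) (by omega)
      calc q * q * (q - 1) * (q * q + 1) ≤ q ^ 12 * (q - 1) * (q ^ 6 + 1) := Nat.mul_le_mul e1 e4
        _ < q ^ 12 * (q - 1) * (q ^ 6 + 1) * ((q ^ 3 + 1) * (q ^ 4 - 1)) := by
            refine (Nat.lt_mul_iff_one_lt_right ?_).2 ?_
            · exact Nat.mul_pos (lt_of_lt_of_le e5 e1) (by omega)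
            · calc 1 < q ^ 3 + 1 := e2
                _ ≤ (q ^ 3 + 1) * (q ^ 4 - 1) := Nat.le_mul_of_pos_right _ e3
        _ = _ := by ring
    have hfac := fact_L4 (Inst.full hK hφ) hm hcK hcard hp2 h
    refine spair_of_twin ((Inst.full hK hφ).rot ^ (2 : ℤ)) (L := L4 (Inst.full hK hφ)) (M := M4 (Inst.full hK hφ))
      (fun l hl => ?_) (fun l hl m hm => L4_comm_M4 _ hl hm) (fun z h1 h2 => inf_one _ hF h1 h2) hna4
      (row_of_below hlt hs hna4 hlt4) (card_M4 _).symm hfac.le ha hb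
    rw [← map_L4]
    exact ⟨l, hl, rfl⟩
  -- the case of `LO`
  have sl : p ∣ Nat.card K + 1 → SPair p (⊤ : Subgroup S) x y := by
    intro h
    apply trans
    intro a b ha hb
    have hs := simple_M5 (Inst.full hK hφ) (by omega)
    have hc5 : Nat.card (M5 (Inst.full hK hφ)) = (Nat.card K * (Nat.card K - 1)) * (Nat.card K + 1) := by
      rw [card_M5, H42.Deg.F4.card_LO, Nat.card_units]
    have hna5 : ¬ IsMulCommutative (M5 (Inst.full hK hφ)) := by
      refine na_of_simple_card ?_ ?_ hc5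
      · rw [hcK]
        obtain ⟨r, hr⟩ : ∃ r, 2 ^ (2 * m + 1) = r + 8 := ⟨2 ^ (2 * m + 1) - 8, by omega⟩
        rw [hr, show r + 8 - 1 = r + 7 by omega]
        nlinarith [Nat.zero_le (r * r)]
      · rw [hcK]
        omega
    have hlt5 : Nat.card (M5 (Inst.full hK hφ)) < Nat.card S := by
      rw [hc5, hcS, hcK]
      unfold H42.Tw.ord
      obtain ⟨q, hq⟩ : ∃ q, q = 2 ^ (2 * m + 1) := ⟨_, rfl⟩
      rw [← hq] at h8 ⊢
      have e1 : q * (q - 1) ≤ q ^ 12 * (q - 1) := by
        refine Nat.mul_le_mul_right _ ?_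
        calc q = q ^ 1 := (pow_one q).symm
          _ ≤ q ^ 12 := Nat.pow_le_pow_right (by omega) (by norm_num)
      have e2 : 1 < q ^ 3 + 1 := by
        have := Nat.pos_of_ne_zero (pow_ne_zero 3 (by omega : q ≠ 0))
        omega
      have e3 : 0 < q ^ 4 - 1 := by
        have : 1 < q ^ 4 := Nat.one_lt_pow (by norm_num) (by omega)
        omega
      have e4 : q + 1 ≤ q ^ 6 + 1 := by
        have : q ^ 1 ≤ q ^ 6 := Nat.pow_le_pow_right (by omega) (by norm_num)
        rw [pow_one] at this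
        omega
      have e5 : 0 < q * (q - 1) := by
        refine Nat.mul_pos (by omega) (by omega)
      calc q * (q - 1) * (q + 1) ≤ q ^ 12 * (q - 1) * (q ^ 6 + 1) := Nat.mul_le_mul e1 e4
        _ < q ^ 12 * (q - 1) * (q ^ 6 + 1) * ((q ^ 3 + 1) * (q ^ 4 - 1)) := by
            refine (Nat.lt_mul_iff_one_lt_right ?_).2 ?_
            · exact Nat.mul_pos (lt_of_lt_of_le e5 e1) (by omega)
            · calc 1 < q ^ 3 + 1 := e2
                _ ≤ (q ^ 3 + 1) * (q ^ 4 - 1) := Nat.le_mul_of_pos_right _ e3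
        _ = _ := by ring
    have hfac : (Nat.card ↥(Lie.twistedF4 K (2 ^ m))).factorization p ≤
        2 * (Nat.card (Inst.full hK hφ).LO).factorization p := by
      rw [hcard, H42.Tw.fact_plus h5 (by omega) h]
      refine Nat.mul_le_mul_left 2 ?_
      have hd : Nat.card K + 1 ∣ Nat.card (Inst.full hK hφ).LO := by
        rw [Cfsg.Agent.H42.Deg.F4.card_LO]
        exact dvd_mul_left _ _
      exact (Nat.factorization_le_iff_dvd (by omega) Nat.card_pos.ne').2 hd p
    exact spair_of_twin ((Inst.full hK hφ).rot ^ (2 : ℤ)) (L := (Inst.full hK hφ).LO) (M := M5 (Inst.full hK hφ))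
      (fun l hl => ck_LO _ hl) (fun l hl m hm => comm_M5 _ hl hm) (fun z h1 h2 => LO_inf_M5 _ (by omega) h1 h2) hna5
      (row_of_below hlt hs hna5 hlt5) (card_M5 _).symm hfac ha hb
  rcases H42.Tw.cases_ord (by omega) hpq hd with h | h | h | h | h
  · exact sz (Or.inl (by rw [hcK]; exact h))
  · exact sl (by rw [hcK]; exact h)
  · exact sz (Or.inr (by rw [hcK]; exact h))
  · exact cyc fun hP => H42.Tw.cyclic_twF4' hK h5 (Or.inl h) hP
  · exact cyc fun hP => H42.Tw.cyclic_twF4' hK h5 (Or.inr h) hP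

/-- **The strong row of `²F₄(q)`, `q ≥ 8`.** -/
theorem srow_twF4 {p : ℕ} (hp : p.Prime) (h5 : 5 ≤ p) (B : SBox.{u} p) {S : Type u} [Group S] [Finite S]
    [IsSimpleGroup S] (hna : ¬ IsMulCommutative S) (hlt : SBelow.{u} p (Nat.card S)) {K : Type} [Field K] [Fintype K]
    {m : ℕ} (hm : 1 ≤ m) (hK : Fintype.card K = 2 ^ (2 * m + 1)) (e : S ≃* ↥(Lie.twistedF4 K (2 ^ m))) :
    SRow p S :=
  srow_of_ok B.aa B.rs hp hna (H28.T5TwF.outerOk_twF4 hm hK hp h5 e) (H28.T5TwF.homOk_twF4 hm hK hp h5 e)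
    fun _ _ hx hy => inner_twF4 hp h5 B hna hlt hm hK e hx hy

theorem nd_of_seven {p : ℕ} (hp : p.Prime) (h7 : 7 ≤ p) : ¬ p ∣ 2 ^ 11 * 3 ^ 3 * 5 ^ 2 := by
  intro h
  have h2 : (p ∣ 2 ∨ p ∣ 3) ∨ p ∣ 5 := by
    rcases hp.dvd_mul.1 h with h | h
    · rcases hp.dvd_mul.1 h with h | h
      · exact Or.inl (Or.inl (hp.dvd_of_dvd_pow h))
      · exact Or.inl (Or.inr (hp.dvd_of_dvd_pow h))
    · exact Or.inr (hp.dvd_of_dvd_pow h)
  rcases h2 with (h | h) | h
  · have := Nat.le_of_dvd (by norm_num) h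
    omega
  · have := Nat.le_of_dvd (by norm_num) h
    omega
  · have := Nat.le_of_dvd (by norm_num) h
    omega

/-- **The strong row of the Tits group.** -/
theorem srow_tits {p : ℕ} (hp : p.Prime) (h5 : 5 ≤ p) (B : SBox.{u} p) {S : Type u} [Group S] [Finite S]
    [IsSimpleGroup S] (hna : ¬ IsMulCommutative S) (h : Lie.IsoTits S) : SRow p S := by
  have hpf : Fact p.Prime := ⟨hp⟩
  refine SRow.of_inner hna (fun a ha => H143.T5FiTits.inner_range (Or.inr h) hp h5 a ha) ?_
  intro x y hx hy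
  by_cases hp5 : p = 5
  · subst hp5
    have hxy := (H235.TitsRow.facts h).one x y hx hy
    obtain ⟨c, hc⟩ := isConj_iff.1 hxy.symm
    exact SPair.mk' hp (apair_of_isConj_zpow B.rs hp hna hx (s := c) (j := 1) (by rw [zpow_one, hc]))
      (bpair_of_isConj B.aa hp hna hx hxy)
  · refine spair_of_not_sq_dvd B.aa B.rs hna ?_ hx hy
    obtain ⟨e⟩ := h
    rw [Nat.card_congr e.toEquiv, Agent.Omega.TitsIso.TitsSide.facts.2.2,
      show 17971200 = 2 ^ 11 * 3 ^ 3 * 5 ^ 2 * 13 by norm_num]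
    intro h1
    have h7 : 7 ≤ p := by
      by_contra h7
      have h8 : p = 6 := by omega
      subst h8
      revert hp; norm_num
    have h3 : (p ^ 2).Coprime (2 ^ 11 * 3 ^ 3 * 5 ^ 2) :=
      Nat.Coprime.pow_left 2 ((Nat.Prime.coprime_iff_not_dvd hp).2 (nd_of_seven hp h7))
    have h4 := h3.dvd_of_dvd_mul_left h1
    have h5 := Nat.le_of_dvd (by norm_num) h4
    nlinarith

end rows

end Cfsg.Agent.H823.S5
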